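import Groth.Agent.Lib.CompactRep0.Small
import Groth.Agent.Lib.TriCat.ProductsOfBrown
import Mathlib.Algebra.Category.ModuleCat.Colimits
import Mathlib.Algebra.Category.ModuleCat.FilteredColimits
import Mathlib.CategoryTheory.Comma.StructuredArrow.Basic
import Mathlib.CategoryTheory.Limits.ConcreteCategory.Basic
import Mathlib.CategoryTheory.Linear.Basic
import Mathlib.LinearAlgebra.Dual.Lemmas

/-!
# Extension of a finite-dimensional cohomological functor on compact objects to all objects
-/

set_option autoImplicit false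
set_option linter.style.haveILetI false

universe w v u

open CategoryTheory CategoryTheory.Limits CategoryTheory.Pretriangulated Opposite
open CategoryTheory.Pretriangulated.Opposite
open ZeroObject

noncomputable section

namespace GrothLib.CompactRep0

variable {k : Type w} [Field k]
  {D : Type u} [Category.{v} D] [Preadditive D] [HasZeroObject D] [HasShift D ℤ]
  [∀ n : ℤ, (shiftFunctor D n).Additive] [Pretriangulated D] [HasCoproducts.{v} D]

/-- The category of compact objects. -/
abbrev Cpts (D : Type u) [Category.{v} D] [Preadditive D] [HasCoproducts.{v} D] : Type u :=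
  ObjectProperty.FullSubcategory (fun K : D => CohDer.IsCompactObject K)

variable (H : (Cpts D)ᵒᵖ ⥤ ModuleCat.{v} k) [H.Additive]

/-- The restriction along a morphism of compact objects. -/
def hres {A B : Cpts D} (f : A.obj ⟶ B.obj) : H.obj (op B) →ₗ[k] H.obj (op A) :=
  (H.map (ObjectProperty.homMk f : A ⟶ B).op).hom

omit [HasZeroObject D] [HasShift D ℤ] [∀ n : ℤ, (shiftFunctor D n).Additive] [Pretriangulated D] [H.Additive] in
theorem hres_id (A : Cpts D) (x : H.obj (op A)) : hres H (𝟙 A.obj) x = x := by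
  have : (ObjectProperty.homMk (𝟙 A.obj) : A ⟶ A) = 𝟙 A := rfl
  simp [hres, this]

omit [HasZeroObject D] [HasShift D ℤ] [∀ n : ℤ, (shiftFunctor D n).Additive] [Pretriangulated D] [H.Additive] in
theorem hres_comp {A B C : Cpts D} (f : A.obj ⟶ B.obj) (g : B.obj ⟶ C.obj) (x : H.obj (op C)) :
    hres H (f ≫ g) x = hres H f (hres H g x) := by
  have : (ObjectProperty.homMk (f ≫ g) : A ⟶ C) = ObjectProperty.homMk f ≫ ObjectProperty.homMk g := rfl
  simp [hres, this]

omit [HasZeroObject D] [HasShift D ℤ] [∀ n : ℤ, (shiftFunctor D n).Additive] [Pretriangulated D] in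
theorem hres_add {A B : Cpts D} (f g : A.obj ⟶ B.obj) (x : H.obj (op B)) :
    hres H (f + g) x = hres H f x + hres H g x := by
  have : (ObjectProperty.homMk (f + g) : A ⟶ B) = ObjectProperty.homMk f + ObjectProperty.homMk g := rfl
  simp [hres, this, op_add, Functor.map_add]

omit [HasZeroObject D] [HasShift D ℤ] [∀ n : ℤ, (shiftFunctor D n).Additive] [Pretriangulated D] in
theorem hres_zero {A B : Cpts D} (x : H.obj (op B)) : hres H (0 : A.obj ⟶ B.obj) x = 0 := by
  have h := hres_add H (0 : A.obj ⟶ B.obj) 0 x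
  rw [add_zero] at h
  exact left_eq_add.1 h

/-- Exactness on triangles of compact objects. -/
def IsCohom : Prop :=
  ∀ T ∈ distTriang D, ∀ (h₁ : CohDer.IsCompactObject T.obj₁) (h₂ : CohDer.IsCompactObject T.obj₂)
    (h₃ : CohDer.IsCompactObject T.obj₃) (y : H.obj (op ⟨T.obj₂, h₂⟩)),
    hres H (A := ⟨T.obj₁, h₁⟩) (B := ⟨T.obj₂, h₂⟩) T.mor₁ y = 0 →
      ∃ z : H.obj (op ⟨T.obj₃, h₃⟩), hres H (A := ⟨T.obj₂, h₂⟩) (B := ⟨T.obj₃, h₃⟩) T.mor₂ z = y

variable {I : Type v} (E : I → D) (hEc : ∀ i, CohDer.IsCompactObject (E i))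
variable [IsTriangulated D]

/-- A member of the small family as a compact object. -/
def cob (j : Ix E) : Cpts D := ⟨ob E j, compact_stage E hEc j.1 j.2⟩

/-- The compatible families indexed by the maps from the small family. -/
def Fam (X : D) : Submodule k (∀ j : Ix E, (ob E j ⟶ X) → H.obj (op (cob E hEc j))) where
  carrier := {z | ∀ (j j' : Ix E) (h : ob E j ⟶ ob E j') (s : ob E j' ⟶ X),
    z j (h ≫ s) = hres H (A := cob E hEc j) (B := cob E hEc j') h (z j' s)}
  add_mem' := fun {a b} ha hb j j' h s => by simp only [Pi.add_apply, ha j j' h s, hb j j' h s, map_add]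
  zero_mem' := fun j j' h s => by simp
  smul_mem' := fun c a ha j j' h s => by simp only [Pi.smul_apply, ha j j' h s, map_smul]

variable {H E hEc}

theorem Fam.natural {X : D} (z : Fam H E hEc X) {j j' : Ix E} (h : ob E j ⟶ ob E j') (s : ob E j' ⟶ X) :
    z.1 j (h ≫ s) = hres H (A := cob E hEc j) (B := cob E hEc j') h (z.1 j' s) :=
  z.2 j j' h s

theorem Fam.map_zero' {X : D} (z : Fam H E hEc X) (j : Ix E) : z.1 j 0 = 0 := by
  have := Fam.natural z (0 : ob E j ⟶ ob E j) (0 : ob E j ⟶ X)
  rw [zero_comp] at this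
  exact this.trans (hres_zero H (A := cob E hEc j) (B := cob E hEc j) _)

theorem Fam.map_add' {X : D} (z : Fam H E hEc X) (j : Ix E) (s t : ob E j ⟶ X) :
    z.1 j (s + t) = z.1 j s + z.1 j t := by
  obtain ⟨j', ⟨e⟩⟩ := inP_biprod E (inP_ob E j) (inP_ob E j)
  let σ : ob E j' ⟶ X := e.inv ≫ biprod.desc s t
  let i₁ : ob E j ⟶ ob E j' := biprod.inl ≫ e.hom
  let i₂ : ob E j ⟶ ob E j' := biprod.inr ≫ e.hom
  have hs : i₁ ≫ σ = s := by simp [i₁, σ]
  have ht : i₂ ≫ σ = t := by simp [i₂, σ]
  calc z.1 j (s + t) = z.1 j ((i₁ + i₂) ≫ σ) := by rw [Preadditive.add_comp, hs, ht]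
    _ = hres H (A := cob E hEc j) (B := cob E hEc j') (i₁ + i₂) (z.1 j' σ) := Fam.natural z _ _
    _ = z.1 j (i₁ ≫ σ) + z.1 j (i₂ ≫ σ) := by
      rw [Fam.natural, Fam.natural]; exact hres_add H _ _ _
    _ = _ := by rw [hs, ht]

/-- Evaluation at `j` as an additive map. -/
def Fam.evalHom {X : D} (z : Fam H E hEc X) (j : Ix E) : (ob E j ⟶ X) →+ H.obj (op (cob E hEc j)) :=
  AddMonoidHom.mk' (z.1 j) (Fam.map_add' z j)

variable (H E hEc)

/-- Restriction of families. -/
def pull {X Y : D} (f : X ⟶ Y) : Fam H E hEc Y →ₗ[k] Fam H E hEc X where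
  toFun z := ⟨fun j s => z.1 j (s ≫ f), fun j j' h s => by
    show z.1 j ((h ≫ s) ≫ f) = _
    rw [Category.assoc]; exact z.2 j j' h (s ≫ f)⟩
  map_add' a b := rfl
  map_smul' c a := rfl

theorem pull_apply {X Y : D} (f : X ⟶ Y) (z : Fam H E hEc Y) (j : Ix E) (s : ob E j ⟶ X) :
    (pull H E hEc f z).1 j s = z.1 j (s ≫ f) := rfl

/-- The extension of `H` to all objects. -/
def famFunctor : Dᵒᵖ ⥤ AddCommGrpCat.{v} where
  obj Y := AddCommGrpCat.of (Fam H E hEc Y.unop)
  map f := AddCommGrpCat.ofHom (pull H E hEc f.unop).toAddMonoidHom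
  map_id Y := by
    ext z : 2
    exact Subtype.ext (funext fun j => funext fun s => congrArg (z.1 j) (Category.comp_id s))
  map_comp f g := by
    ext z : 2
    exact Subtype.ext (funext fun j => funext fun s => congrArg (z.1 j) (Category.assoc s g.unop f.unop).symm)

section Filtered

/-- The small category of the family. -/
abbrev SmallCpts : Type v := InducedCategory D (ob E)

/-- The inclusion. -/
abbrev incl : SmallCpts E ⥤ D := inducedFunctor (ob E)

/-- An index as an object of the small category. -/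
def toSmall (j : Ix E) : SmallCpts E := j

variable {E}

theorem isFiltered_costructuredArrow (X : D) : IsFiltered (CostructuredArrow (incl E) X) := by
  haveI : IsFilteredOrEmpty (CostructuredArrow (incl E) X) :=
    { cocone_objs := fun a b => by
        obtain ⟨j, ⟨e⟩⟩ := inP_biprod E (inP_ob E a.left) (inP_ob E b.left)
        refine ⟨CostructuredArrow.mk (S := incl E) (Y := toSmall E j) (e.inv ≫ biprod.desc a.hom b.hom),
          CostructuredArrow.homMk (InducedCategory.homMk (biprod.inl ≫ e.hom)) ?_,
          CostructuredArrow.homMk (InducedCategory.homMk (biprod.inr ≫ e.hom)) ?_, trivial⟩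
        · show (biprod.inl ≫ e.hom) ≫ e.inv ≫ biprod.desc a.hom b.hom = a.hom
          simp
        · show (biprod.inr ≫ e.hom) ≫ e.inv ≫ biprod.desc a.hom b.hom = b.hom
          simp
      cocone_maps := fun a b f g => by
        obtain ⟨C, p, q, hT⟩ := distinguished_cocone_triangle (f.left.hom - g.left.hom)
        have h0 : (f.left.hom - g.left.hom) ≫ b.hom = 0 := by
          rw [Preadditive.sub_comp, sub_eq_zero]
          exact (CostructuredArrow.w f).trans (CostructuredArrow.w g).symm
        obtain ⟨t, ht⟩ : ∃ t : C ⟶ X, b.hom = p ≫ t := Triangle.yoneda_exact₂ _ hT b.hom h0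
        obtain ⟨j, ⟨e⟩⟩ : ∃ j, Nonempty (C ≅ ob E j) := inP_cone E hT (inP_ob E a.left) (inP_ob E b.left)
        refine ⟨CostructuredArrow.mk (S := incl E) (Y := toSmall E j) (e.inv ≫ t),
          CostructuredArrow.homMk (InducedCategory.homMk (p ≫ e.hom)) ?_, ?_⟩
        · show (p ≫ e.hom) ≫ e.inv ≫ t = b.hom
          rw [Category.assoc, e.hom_inv_id_assoc, ← ht]
        · have h1 : (f.left.hom - g.left.hom) ≫ p = 0 := comp_distTriang_mor_zero₁₂ _ hT
          rw [Preadditive.sub_comp, sub_eq_zero] at h1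
          exact CostructuredArrow.hom_ext _ _ (InducedCategory.hom_ext (by
            show f.left.hom ≫ p ≫ e.hom = g.left.hom ≫ p ≫ e.hom
            rw [← Category.assoc, h1, Category.assoc])) }
  haveI : Nonempty (CostructuredArrow (incl E) X) :=
    ⟨CostructuredArrow.mk (S := incl E) (Y := toSmall E ⟨0, Sum.inl PUnit.unit⟩) 0⟩
  exact { }

end Filtered

/-- The duals of the values. -/
def dualF : SmallCpts E ⥤ ModuleCat.{max v w} k where
  obj j := ModuleCat.of k (Module.Dual k (H.obj (op (cob E hEc j))))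
  map {j j'} h := ModuleCat.ofHom (hres H (A := cob E hEc j) (B := cob E hEc j') h.hom).dualMap
  map_id j := by
    ext φ : 2
    exact LinearMap.ext fun x => congrArg φ (hres_id H (cob E hEc j) x)
  map_comp {i j l} f g := by
    ext φ : 2
    exact LinearMap.ext fun x => congrArg φ
      (hres_comp H (A := cob E hEc i) (B := cob E hEc j) (C := cob E hEc l) f.hom g.hom x)

/-- The diagram over the maps into `X`. -/
abbrev diag (X : D) : CostructuredArrow (incl E) X ⥤ ModuleCat.{max v w} k :=
  CostructuredArrow.proj (incl E) X ⋙ dualF H E hEc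

/-- An element of the diagram as a linear form. -/
def asDual {X : D} {a : CostructuredArrow (incl E) X} (φ : (diag H E hEc X).obj a) :
    Module.Dual k (H.obj (op (cob E hEc a.left))) := φ

/-- A linear form as an element of the diagram. -/
def ofDual {X : D} (a : CostructuredArrow (incl E) X) (φ : Module.Dual k (H.obj (op (cob E hEc a.left)))) :
    (diag H E hEc X).obj a := φ

theorem preservesColimitsOfShape_forget (R : Type w) [Ring R] (J : Type v) [SmallCategory J] [IsFiltered J] :
    PreservesColimitsOfShape J (forget (ModuleCat.{max v w} R)) := by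
  haveI : PreservesFilteredColimitsOfSize.{v, v} (forget AddCommGrpCat.{max v w}) :=
    preservesFilteredColimitsOfSize_shrink.{v, max v w, v, max v w} _
  haveI : PreservesColimitsOfShape J (forget₂ (ModuleCat.{max v w} R) AddCommGrpCat ⋙ forget AddCommGrpCat) :=
    inferInstance
  exact preservesColimitsOfShape_of_natIso (F := forget₂ (ModuleCat.{max v w} R) AddCommGrpCat ⋙ forget AddCommGrpCat)
    (Iso.refl _)

variable {H E hEc}

theorem exists_pull_eq (hcoh : IsCohom H) (hfin : ∀ A, Module.Finite k (H.obj (op A))) (T : Triangle D)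
    (hT : T ∈ distTriang D) (y : Fam H E hEc T.obj₂) (hy : pull H E hEc T.mor₁ y = 0) :
    ∃ z : Fam H E hEc T.obj₃, pull H E hEc T.mor₂ z = y := by
  haveI := hfin
  haveI := isFiltered_costructuredArrow (E := E) T.obj₂
  haveI := isFiltered_costructuredArrow (E := E) T.obj₃
  let G₂ := colimit (diag H E hEc T.obj₂)
  let G₃ := colimit (diag H E hEc T.obj₃)
  let cy : Cocone (diag H E hEc T.obj₂) :=
    { pt := ModuleCat.of k (ULift.{v} k)
      ι :=
        { app := fun a => ModuleCat.ofHom (ULift.moduleEquiv.symm.toLinearMap ∘ₗ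
            Module.Dual.eval k _ (y.1 a.left a.hom))
          naturality := fun a b f => by
            ext φ : 2
            show ULift.up (asDual H E hEc φ
              (hres H (A := cob E hEc a.left) (B := cob E hEc b.left) f.left.hom (y.1 b.left b.hom))) =
                ULift.up (asDual H E hEc φ (y.1 a.left a.hom))
            rw [← Fam.natural]
            exact congrArg (fun s => ULift.up (asDual H E hEc φ (y.1 a.left s))) (CostructuredArrow.w f) } }
  let ey : G₂ →ₗ[k] ULift.{v} k := (colimit.desc _ cy).hom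
  let cq : Cocone (diag H E hEc T.obj₂) :=
    { pt := G₃
      ι :=
        { app := fun a => colimit.ι (diag H E hEc T.obj₃) ((CostructuredArrow.map T.mor₂).obj a)
          naturality := fun a b f => by
            refine (colimit.w (diag H E hEc T.obj₃) ((CostructuredArrow.map T.mor₂).map f)).trans ?_
            exact (Category.comp_id _).symm } }
  let q : G₂ →ₗ[k] G₃ := (colimit.desc _ cq).hom
  haveI : PreservesColimitsOfShape (CostructuredArrow (incl E) T.obj₂) (forget (ModuleCat.{max v w} k)) :=
    preservesColimitsOfShape_forget k _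
  haveI : PreservesColimitsOfShape (CostructuredArrow (incl E) T.obj₃) (forget (ModuleCat.{max v w} k)) :=
    preservesColimitsOfShape_forget k _
  have key : LinearMap.ker q ≤ LinearMap.ker ey := fun x hx => by
    rw [LinearMap.mem_ker] at hx ⊢
    obtain ⟨a, φ, rfl⟩ := Concrete.colimit_exists_rep (diag H E hEc T.obj₂) x
    have hq : q (colimit.ι (diag H E hEc T.obj₂) a φ) =
        colimit.ι (diag H E hEc T.obj₃) ((CostructuredArrow.map T.mor₂).obj a) φ :=
      ConcreteCategory.congr_hom (colimit.ι_desc cq a) φ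
    have he : ey (colimit.ι (diag H E hEc T.obj₂) a φ) =
        ULift.up (asDual H E hEc φ (y.1 a.left a.hom)) :=
      ConcreteCategory.congr_hom (colimit.ι_desc cy a) φ
    rw [hq] at hx
    rw [he]
    obtain ⟨b, f, g, hfg⟩ := Concrete.colimit_exists_of_rep_eq (diag H E hEc T.obj₃)
      (i := (CostructuredArrow.map T.mor₂).obj a) (j := (CostructuredArrow.map T.mor₂).obj a) φ 0
      (by rw [map_zero]; exact hx)
    rw [map_zero] at hfg
    let h : ob E a.left ⟶ ob E b.left := f.left.hom
    have hh : h ≫ b.hom = a.hom ≫ T.mor₂ := CostructuredArrow.w f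
    have hφ : ∀ z, asDual H E hEc φ (hres H (A := cob E hEc a.left) (B := cob E hEc b.left) h z) = 0 :=
      fun z => LinearMap.congr_fun (hfg : (hres H (A := cob E hEc a.left) (B := cob E hEc b.left) h).dualMap (asDual H E hEc φ) = 0) z
    obtain ⟨C, p, r, hC⟩ := distinguished_cocone_triangle₁ h
    obtain ⟨c, hc, -⟩ := complete_distinguished_triangle_morphism₁ _ T hC hT a.hom b.hom hh
    obtain ⟨j, ⟨e⟩⟩ : ∃ j, Nonempty (C ≅ ob E j) := inP_ext₁ E hC (inP_ob E a.left) (inP_ob E b.left)
    have hC' : Triangle.mk (e.inv ≫ p) h (r ≫ (shiftFunctor D (1 : ℤ)).map e.hom) ∈ distTriang D :=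
      isomorphic_distinguished _ hC _ (Triangle.isoMk _ _ e.symm (Iso.refl _) (Iso.refl _)
        (show (e.inv ≫ p) ≫ 𝟙 _ = e.inv ≫ p from Category.comp_id _)
        (show h ≫ 𝟙 _ = 𝟙 _ ≫ h from (Category.comp_id _).trans (Category.id_comp _).symm)
        (show (r ≫ (shiftFunctor D (1 : ℤ)).map e.hom) ≫ (shiftFunctor D (1 : ℤ)).map e.inv = 𝟙 _ ≫ r by
          rw [Category.assoc, ← Functor.map_comp, e.hom_inv_id, CategoryTheory.Functor.map_id,
            Category.comp_id, Category.id_comp]))
    have hres0 : hres H (A := cob E hEc j) (B := cob E hEc a.left) (e.inv ≫ p) (y.1 a.left a.hom) = 0 := by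
      refine (Fam.natural y (e.inv ≫ p) a.hom).symm.trans ?_
      have hs : (e.inv ≫ p) ≫ a.hom = (e.inv ≫ c) ≫ T.mor₁ :=
        (Category.assoc _ _ _).trans ((congrArg (e.inv ≫ ·) hc).trans (Category.assoc _ _ _).symm)
      exact (congrArg (y.1 j) hs).trans (congrArg (fun w : Fam H E hEc T.obj₁ => w.1 j (e.inv ≫ c)) hy)
    obtain ⟨z, hz⟩ := hcoh _ hC' (cob E hEc j).property (cob E hEc a.left).property
      (cob E hEc b.left).property (y.1 a.left a.hom) hres0
    rw [← show hres H (A := cob E hEc a.left) (B := cob E hEc b.left) h z = y.1 a.left a.hom from hz, hφ z]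
    rfl
  obtain ⟨ψ', hψ'⟩ := LinearMap.exists_extend
    (((LinearMap.ker q).liftQ ey key).comp q.quotKerEquivRange.symm.toLinearMap)
  have hψ : ∀ x, ψ' (q x) = ey x := fun x => by
    have := LinearMap.congr_fun hψ' ⟨q x, LinearMap.mem_range_self q x⟩
    simpa [LinearMap.quotKerEquivRange_symm_apply_image] using this
  let F : ∀ (j : Ix E) (s : ob E j ⟶ T.obj₃), Module.Dual k (Module.Dual k (H.obj (op (cob E hEc j)))) :=
    fun j s => ULift.moduleEquiv.toLinearMap ∘ₗ ψ' ∘ₗ
      (colimit.ι (diag H E hEc T.obj₃) (CostructuredArrow.mk (S := incl E) (Y := toSmall E j) s)).hom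
  have hF : ∀ (j : Ix E) (s : ob E j ⟶ T.obj₃) (φ : Module.Dual k (H.obj (op (cob E hEc j)))),
      φ ((Module.evalEquiv k _).symm (F j s)) = F j s φ := fun j s φ =>
    Module.apply_evalEquiv_symm_apply k (H.obj (op (cob E hEc j))) φ (F j s)
  let z : Fam H E hEc T.obj₃ := ⟨fun j s => (Module.evalEquiv k _).symm (F j s), fun j j' h s => by
    refine (Module.evalEquiv k (H.obj (op (cob E hEc j)))).injective (LinearMap.ext fun φ => ?_)
    show φ ((Module.evalEquiv k _).symm (F j (h ≫ s))) =
      ((hres H (A := cob E hEc j) (B := cob E hEc j') h).dualMap φ) ((Module.evalEquiv k _).symm (F j' s))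
    rw [hF, hF]
    let m : CostructuredArrow.mk (S := incl E) (Y := toSmall E j) (h ≫ s) ⟶
        CostructuredArrow.mk (S := incl E) (Y := toSmall E j') s :=
      CostructuredArrow.homMk (InducedCategory.homMk h) rfl
    exact congrArg (fun x => (ψ' x).down)
      (ConcreteCategory.congr_hom (colimit.w (diag H E hEc T.obj₃) m) (ofDual H E hEc _ φ)).symm⟩
  refine ⟨z, Subtype.ext (funext fun j => funext fun s => ?_)⟩
  refine (Module.evalEquiv k (H.obj (op (cob E hEc j)))).injective (LinearMap.ext fun φ => ?_)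
  show φ ((Module.evalEquiv k _).symm (F j (s ≫ T.mor₂))) = φ (y.1 j s)
  rw [hF]
  let a : CostructuredArrow (incl E) T.obj₂ := CostructuredArrow.mk (S := incl E) (Y := toSmall E j) s
  have hq : q (colimit.ι (diag H E hEc T.obj₂) a (ofDual H E hEc a φ)) =
      colimit.ι (diag H E hEc T.obj₃) ((CostructuredArrow.map T.mor₂).obj a) (ofDual H E hEc a φ) :=
    ConcreteCategory.congr_hom (colimit.ι_desc cq a) (ofDual H E hEc a φ)
  have he : ey (colimit.ι (diag H E hEc T.obj₂) a (ofDual H E hEc a φ)) = ULift.up (φ (y.1 j s)) :=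
    ConcreteCategory.congr_hom (colimit.ι_desc cy a) (ofDual H E hEc a φ)
  exact congrArg ULift.down ((congrArg ψ' hq.symm).trans ((hψ _).trans he))

theorem isHomological_famFunctor (hcoh : IsCohom H) (hfin : ∀ A, Module.Finite k (H.obj (op A))) :
    (famFunctor H E hEc).IsHomological :=
  have : (famFunctor H E hEc).PreservesZeroMorphisms := ⟨fun Y Z => by
    ext x : 2
    exact Subtype.ext (funext fun j => funext fun s =>
      (congrArg (x.1 j) comp_zero).trans (Fam.map_zero' x j))⟩
  { exact := fun T hT => by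
      rw [ShortComplex.ab_exact_iff]
      intro x hx
      exact exists_pull_eq hcoh hfin _ (unop_distinguished T hT) x hx }

theorem famFunctor_preservesLimitsOfShape (κ : Type v) :
    PreservesLimitsOfShape (Discrete κ) (famFunctor H E hEc) :=
  ⟨fun {F} => by
    classical
    let K : κ → D := fun a => (F.obj ⟨a⟩).unop
    have hfs : ∀ (j : Ix E) (b : ob E j ⟶ ∐ K), ∃ t : Finset κ, b ≫ TriCat.supp K t = b := fun j b =>
      (TriCat.isCompactObject_iff_hasFiniteSupport _).1 (cob E hEc j).property κ K b
    choose sup hsup using hfs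
    have hπ : ∀ (j : Ix E) (b : ob E j ⟶ ∐ K) (t : Finset κ), b ≫ TriCat.supp K t = b → ∀ a ∉ t,
        b ≫ Sigma.π K a = 0 := fun j b t ht a ha => by
      rw [← ht, Category.assoc, TriCat.supp_eq_sum, Preadditive.sum_comp, Preadditive.comp_sum]
      refine Finset.sum_eq_zero fun c hc => ?_
      rw [Category.assoc, Sigma.ι_π_of_ne K (fun e => ha (by rw [← e]; exact hc)), comp_zero, comp_zero]
    let glue : (∀ a, Fam H E hEc (K a)) → Fam H E hEc (∐ K) := fun zs =>
      ⟨fun j b => ∑ a ∈ sup j b, (zs a).1 j (b ≫ Sigma.π K a), fun j j' h b => by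
        have e1 : ∑ a ∈ sup j (h ≫ b), (zs a).1 j ((h ≫ b) ≫ Sigma.π K a) =
            ∑ a ∈ sup j (h ≫ b) ∪ sup j' b, (zs a).1 j ((h ≫ b) ≫ Sigma.π K a) :=
          Finset.sum_subset Finset.subset_union_left fun a _ ha => by
            rw [hπ j (h ≫ b) _ (hsup j (h ≫ b)) a ha]; exact Fam.map_zero' _ j
        have e2 : ∑ a ∈ sup j' b, (zs a).1 j' (b ≫ Sigma.π K a) =
            ∑ a ∈ sup j (h ≫ b) ∪ sup j' b, (zs a).1 j' (b ≫ Sigma.π K a) :=
          Finset.sum_subset Finset.subset_union_right fun a _ ha => by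
            rw [hπ j' b _ (hsup j' b) a ha]; exact Fam.map_zero' _ j'
        refine e1.trans (Eq.trans ?_ (congrArg (hres H (A := cob E hEc j) (B := cob E hEc j') h) e2).symm)
        rw [map_sum]
        exact Finset.sum_congr rfl fun a _ => by rw [Category.assoc]; exact Fam.natural _ _ _⟩
    have glue_ι : ∀ zs a, pull H E hEc (Sigma.ι K a) (glue zs) = zs a := fun zs a =>
      Subtype.ext (funext fun j => funext fun s => by
        show ∑ c ∈ sup j (s ≫ Sigma.ι K a), (zs c).1 j ((s ≫ Sigma.ι K a) ≫ Sigma.π K c) = _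
        rw [Finset.sum_eq_single a]
        · rw [Category.assoc, Sigma.ι_π_eq_id, Category.comp_id]
        · intro c _ hca
          rw [Category.assoc, Sigma.ι_π_of_ne K hca.symm, comp_zero]; exact Fam.map_zero' _ j
        · intro ha
          rw [hπ j _ _ (hsup j _) a ha]; exact Fam.map_zero' _ j)
    have ext_ι : ∀ (z z' : Fam H E hEc (∐ K)),
        (∀ a, pull H E hEc (Sigma.ι K a) z = pull H E hEc (Sigma.ι K a) z') → z = z' := fun z z' hzz =>
      Subtype.ext (funext fun j => funext fun b => by
        have e : ∀ w : Fam H E hEc (∐ K), w.1 j b =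
            ∑ a ∈ sup j b, (pull H E hEc (Sigma.ι K a) w).1 j (b ≫ Sigma.π K a) := fun w => by
          conv_lhs => rw [← hsup j b, TriCat.supp_eq_sum, Preadditive.comp_sum]
          refine (map_sum (Fam.evalHom w j) _ _).trans (Finset.sum_congr rfl fun a _ => ?_)
          show w.1 j _ = w.1 j _
          rw [Category.assoc]
        rw [e z, e z']
        exact Finset.sum_congr rfl fun a _ => by rw [hzz])
    have : PreservesLimit (Discrete.functor fun a => op (K a)) (famFunctor H E hEc) :=
      preservesLimit_of_preserves_limit_cone (Cofan.IsColimit.op (coproductIsCoproduct K))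
        ((isLimitMapConeFanMkEquiv _ _ _).symm <| Fan.IsLimit.mk _
          (fun s => AddCommGrpCat.ofHom
            { toFun := fun x => glue fun a => ConcreteCategory.hom (s.proj a) x
              map_zero' := ext_ι _ _ fun a => by rw [glue_ι, map_zero, map_zero]; rfl
              map_add' := fun x y => ext_ι _ _ fun a => by rw [glue_ι, map_add, map_add, glue_ι, glue_ι]; rfl })
          (fun s a => by ext x : 2; exact glue_ι _ a)
          (fun s m hm => by
            ext x : 2
            exact ext_ι _ _ fun a => (ConcreteCategory.congr_hom (hm a) x).trans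
              (glue_ι (fun c => ConcreteCategory.hom (s.proj c) x) a).symm))
    exact preservesLimit_of_iso_diagram _
      (Discrete.natIso fun a => Iso.refl _ : Discrete.functor (fun a => op (K a)) ≅ F)⟩

end GrothLib.CompactRep0
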