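import Groth.Agent.Lib.CompactRep0.Ext
import Mathlib.CategoryTheory.Linear.Yoneda
import Mathlib.CategoryTheory.Linear.LinearFunctor

/-!
# Finite-dimensional cohomological functors on compact objects are representable
-/

set_option autoImplicit false
set_option linter.style.haveILetI false

universe w v u

open CategoryTheory CategoryTheory.Limits CategoryTheory.Pretriangulated Opposite

noncomputable section

namespace GrothLib.CompactRep0

variable {k : Type w} [Field k]
  {D : Type u} [Category.{v} D] [Preadditive D] [Linear k D] [HasZeroObject D] [HasShift D ℤ]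
  [∀ n : ℤ, (shiftFunctor D n).Additive] [Pretriangulated D] [IsTriangulated D] [HasCoproducts.{v} D]
  {H : (Cpts D)ᵒᵖ ⥤ ModuleCat.{v} k} [H.Additive]
  {I : Type v} {E : I → D} {hEc : ∀ i, CohDer.IsCompactObject (E i)}

variable (H E hEc) in
/-- An element of `H C` as a family. -/
def theta (C : Cpts D) : H.obj (op C) →ₗ[k] Fam H E hEc C.obj where
  toFun x := ⟨fun j s => hres H (A := cob E hEc j) (B := C) s x, fun j j' h s =>
    hres_comp H (A := cob E hEc j) (B := cob E hEc j') (C := C) h s x⟩
  map_add' a b := Subtype.ext (funext fun j => funext fun s => map_add _ a b)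
  map_smul' c a := Subtype.ext (funext fun j => funext fun s => map_smul _ c a)

theorem theta_bijective (hgen : CohDer.Generates E) (C : Cpts D) :
    Function.Bijective (theta H E hEc C) := by
  obtain ⟨A, i₀, p₀, ⟨j, ⟨e⟩⟩, hip⟩ := retP_of_compact E hEc hgen C.property
  let i : C.obj ⟶ ob E j := i₀ ≫ e.hom
  let p : ob E j ⟶ C.obj := e.inv ≫ p₀
  have hi : i ≫ p = 𝟙 C.obj := by simp [i, p, hip]
  have hx : ∀ x, hres H (A := C) (B := cob E hEc j) i (hres H (A := cob E hEc j) (B := C) p x) = x := fun x =>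
    (hres_comp H (A := C) (B := cob E hEc j) (C := C) i p x).symm.trans
      ((congrArg (fun f => hres H (A := C) (B := C) f x) hi).trans (hres_id H C x))
  refine ⟨fun x y hxy => ?_, fun z => ⟨hres H (A := C) (B := cob E hEc j) i (z.1 j p), ?_⟩⟩
  · have h1 := congrArg (fun z : Fam H E hEc C.obj => z.1 j p) hxy
    exact (hx x).symm.trans ((congrArg _ h1).trans (hx y))
  · refine Subtype.ext (funext fun j' => funext fun s => ?_)
    refine (hres_comp H (A := cob E hEc j') (B := C) (C := cob E hEc j) s i (z.1 j p)).symm.trans ?_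
    refine (Fam.natural z (s ≫ i) p).symm.trans (congrArg (z.1 j') ?_)
    exact (Category.assoc _ _ _).trans ((congrArg (s ≫ ·) hi).trans (Category.comp_id _))

theorem hres_smul (hlin : ∀ (X Y : Cpts D) (r : k) (f : X ⟶ Y), H.map (r • f).op = r • H.map f.op)
    (A : Cpts D) (r : k) (x : H.obj (op A)) : hres H (r • 𝟙 A.obj) x = r • x := by
  have e : (ObjectProperty.homMk (r • 𝟙 A.obj) : A ⟶ A) = r • 𝟙 A := rfl
  have : hres H (r • 𝟙 A.obj) = r • hres H (𝟙 A.obj) := by
    show (H.map (ObjectProperty.homMk (r • 𝟙 A.obj) : A ⟶ A).op).hom = _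
    rw [e, hlin]
    rfl
  rw [this, LinearMap.smul_apply, hres_id]

theorem exists_representing (hD : CohDer.IsCompactlyGenerated D)
    (hlin : ∀ (X Y : Cpts D) (r : k) (f : X ⟶ Y), H.map (r • f).op = r • H.map f.op)
    (hcoh : IsCohom H) (hfin : ∀ A, Module.Finite k (H.obj (op A))) :
    ∃ Y : D, Nonempty (H ≅ (ObjectProperty.ι _).op ⋙ (linearYoneda k D).obj Y) := by
  obtain ⟨I, E, hEc, hgen⟩ := hD
  haveI : ∀ J : Type v, HasColimitsOfShape (Discrete J) D := fun J => inferInstance
  haveI := TriCat.hasColimitsOfShape_nat (D := D)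
  haveI := isHomological_famFunctor (E := E) (hEc := hEc) hcoh hfin
  haveI := fun κ : Type v => famFunctor_preservesLimitsOfShape (H := H) (E := E) (hEc := hEc) κ
  haveI : (famFunctor H E hEc ⋙ forget AddCommGrpCat.{v}).IsRepresentable := by
    obtain ⟨κ, G, hs, hp, h1⟩ :=
      TriCat.exists_perfect_of_compactlyGenerated (D := D) ⟨I, E, hEc, hgen⟩
    exact TriCat.isRepresentable_of_perfect hs hp h1
  let Y := (famFunctor H E hEc ⋙ forget AddCommGrpCat.{v}).reprX
  let R := (famFunctor H E hEc ⋙ forget AddCommGrpCat.{v}).representableBy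
  let u : Fam H E hEc Y := R.homEquiv (𝟙 Y)
  have hu : ∀ {X : D} (f : X ⟶ Y), R.homEquiv f = pull H E hEc f u := fun {X} f => by
    have := R.homEquiv_comp f (𝟙 Y)
    rw [Category.comp_id] at this
    exact this
  let β : ∀ C : Cpts D, (C.obj ⟶ Y) →ₗ[k] Fam H E hEc C.obj := fun C =>
    { toFun := fun f => pull H E hEc f u
      map_add' := fun f g => Subtype.ext (funext fun j => funext fun s =>
        (congrArg (u.1 j) (Preadditive.comp_add _ _ _ s f g)).trans (Fam.map_add' u j _ _))
      map_smul' := fun r f => Subtype.ext (funext fun j => funext fun s => by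
        show u.1 j (s ≫ (r • f)) = r • u.1 j (s ≫ f)
        have e : s ≫ (r • f) = (r • 𝟙 (ob E j)) ≫ (s ≫ f) := by simp
        rw [e, Fam.natural]
        exact hres_smul hlin (cob E hEc j) r _) }
  have hβ : ∀ C, Function.Bijective (β C) := fun C => by
    have : ⇑(β C) = ⇑(R.homEquiv (X := C.obj)) := funext fun f => (hu f).symm
    rw [this]
    exact R.homEquiv.bijective
  let eC : ∀ C : Cpts D, H.obj (op C) ≃ₗ[k] (C.obj ⟶ Y) := fun C =>
    (LinearEquiv.ofBijective (theta H E hEc C) (theta_bijective hgen C)).trans (LinearEquiv.ofBijective (β C) (hβ C)).symm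
  refine ⟨Y, ⟨NatIso.ofComponents (fun C => (eC C.unop).toModuleIso) fun {B A} g => ?_⟩⟩
  ext x
  refine (hβ A.unop).1 ?_
  have h1 : ∀ (C : Cpts D) (y : H.obj (op C)), β C (eC C y) = theta H E hEc C y := fun C y =>
    (LinearEquiv.ofBijective (β C) (hβ C)).apply_symm_apply _
  show β A.unop (eC A.unop (H.map g x)) = β A.unop (g.unop.hom ≫ eC B.unop x)
  rw [h1]
  refine Subtype.ext (funext fun j => funext fun s => ?_)
  have h2 := congrArg (fun z : Fam H E hEc B.unop.obj => z.1 j (s ≫ g.unop.hom)) (h1 B.unop x)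
  refine Eq.trans ?_ ((congrArg (u.1 j) (Category.assoc s g.unop.hom (eC B.unop x))).symm.trans rfl).symm
  refine Eq.trans ?_ h2.symm
  exact (hres_comp H (A := cob E hEc j) (B := A.unop) (C := B.unop) s g.unop.hom x).symm

end GrothLib.CompactRep0
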