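import Groth.Agent.Lib.KSix19.ProjPush.ThickFam
import Groth.Agent.Lib.TriCat.Compact
import Groth.Agent.Lib.TriCat.CompactFactor
import Groth.Agent.Lib.TriCat.BrownCorollaries
import Mathlib.CategoryTheory.Triangulated.Pretriangulated

/-!
# A small family of compact objects whose retracts are all the compact objects
-/

set_option autoImplicit false
set_option linter.style.haveILetI false

universe v u

open CategoryTheory CategoryTheory.Limits CategoryTheory.Pretriangulated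
open ZeroObject

noncomputable section

namespace GrothLib.CompactRep0

variable {D : Type u} [Category.{v} D] [Preadditive D] [HasZeroObject D] [HasShift D ℤ]
  [∀ n : ℤ, (shiftFunctor D n).Additive] [Pretriangulated D]

/-- A chosen cone. -/
def coneObj {X Y : D} (f : X ⟶ Y) : D := (distinguished_cocone_triangle f).choose

theorem coneObj_spec {X Y : D} (f : X ⟶ Y) :
    ∃ (g : Y ⟶ coneObj f) (h : coneObj f ⟶ X⟦(1 : ℤ)⟧), Triangle.mk f g h ∈ distTriang D :=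
  (distinguished_cocone_triangle f).choose_spec

variable {I : Type v} (E : I → D)

/-- The stages of the triangulated closure of a family. -/
def stage : ℕ → Σ J : Type v, (J → D)
  | 0 => ⟨PUnit.{v + 1} ⊕ (I × ℤ), Sum.elim (fun _ => 0) (fun p => (E p.1)⟦p.2⟧)⟩
  | n + 1 => ⟨(stage n).1 ⊕ (Σ a : (stage n).1, Σ b : (stage n).1, ((stage n).2 a ⟶ (stage n).2 b)),
      Sum.elim (stage n).2 (fun p => coneObj p.2.2)⟩

/-- The index of the small family. -/
def Ix : Type v := Σ n : ℕ, (stage E n).1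

/-- The small family. -/
def ob (j : Ix E) : D := (stage E j.1).2 j.2

/-- The objects isomorphic to a member of the small family. -/
def InP (X : D) : Prop := ∃ j, Nonempty (X ≅ ob E j)

theorem InP.of_iso {X Y : D} (e : X ≅ Y) (h : InP E X) : InP E Y := by
  obtain ⟨j, ⟨i⟩⟩ := h
  exact ⟨j, ⟨e.symm ≪≫ i⟩⟩

theorem inP_ob (j : Ix E) : InP E (ob E j) := ⟨j, ⟨Iso.refl _⟩⟩

theorem exists_stage_add (n k : ℕ) (a : (stage E n).1) :
    ∃ a' : (stage E (n + k)).1, (stage E (n + k)).2 a' = (stage E n).2 a := by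
  induction k with
  | zero => exact ⟨a, rfl⟩
  | succ k ih =>
    obtain ⟨a', ha'⟩ := ih
    exact ⟨Sum.inl a', ha'⟩

theorem inP_cone {T : Triangle D} (hT : T ∈ distTriang D) (h₁ : InP E T.obj₁) (h₂ : InP E T.obj₂) :
    InP E T.obj₃ := by
  obtain ⟨⟨n, a⟩, ⟨ea⟩⟩ := h₁
  obtain ⟨⟨m, b⟩, ⟨eb⟩⟩ := h₂
  obtain ⟨a', ha⟩ := exists_stage_add E n m a
  obtain ⟨b', hb⟩ : ∃ b' : (stage E (n + m)).1, (stage E (n + m)).2 b' = (stage E m).2 b := by
    rw [Nat.add_comm n m]; exact exists_stage_add E m n b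
  let ea' : T.obj₁ ≅ (stage E (n + m)).2 a' := ea ≪≫ eqToIso ha.symm
  let eb' : T.obj₂ ≅ (stage E (n + m)).2 b' := eb ≪≫ eqToIso hb.symm
  let f := ea'.inv ≫ T.mor₁ ≫ eb'.hom
  obtain ⟨g, h, hT'⟩ := coneObj_spec f
  let e := isoTriangleOfIso₁₂ T _ hT hT' ea' eb' (show T.mor₁ ≫ eb'.hom = ea'.hom ≫ f by simp [f])
  exact ⟨⟨n + m + 1, Sum.inr ⟨a', b', f⟩⟩, ⟨Triangle.π₃.mapIso e⟩⟩

theorem inP_zero {Z : D} (h : IsZero Z) : InP E Z := ⟨⟨0, Sum.inl PUnit.unit⟩, ⟨h.iso (isZero_zero D)⟩⟩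

theorem inP_shift_stage : ∀ (n : ℕ) (a : (stage E n).1) (m : ℤ), InP E (((stage E n).2 a)⟦m⟧)
  | 0, Sum.inl _, m => inP_zero E ((shiftFunctor D m).map_isZero (isZero_zero D))
  | 0, Sum.inr p, m => ⟨⟨0, Sum.inr (p.1, p.2 + m)⟩, ⟨((shiftFunctorAdd D p.2 m).app (E p.1)).symm⟩⟩
  | n + 1, Sum.inl a, m => inP_shift_stage n a m
  | n + 1, Sum.inr p, m => by
    obtain ⟨g, h, hT⟩ := coneObj_spec p.2.2
    exact inP_cone E (Triangle.shift_distinguished _ hT m) (inP_shift_stage n p.1 m)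
      (inP_shift_stage n p.2.1 m)

theorem InP.shift {X : D} (h : InP E X) (m : ℤ) : InP E (X⟦m⟧) := by
  obtain ⟨⟨n, a⟩, ⟨e⟩⟩ := h
  exact InP.of_iso E ((shiftFunctor D m).mapIso e).symm (inP_shift_stage E n a m)

theorem inP_ext₁ {T : Triangle D} (hT : T ∈ distTriang D) (h₂ : InP E T.obj₂) (h₃ : InP E T.obj₃) :
    InP E T.obj₁ := by
  have h := inP_cone E (rot_of_distTriang _ hT) h₂ h₃
  exact InP.of_iso E ((shiftFunctorCompIsoId D (1 : ℤ) (-1) (by omega)).app T.obj₁) (InP.shift E h (-1))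

theorem inP_ext₂ {T : Triangle D} (hT : T ∈ distTriang D) (h₁ : InP E T.obj₁) (h₃ : InP E T.obj₃) :
    InP E T.obj₂ :=
  inP_cone E (inv_rot_of_distTriang _ hT) (InP.shift E h₃ (-1)) h₁

theorem inP_biprod {X Y : D} [HasBinaryBiproduct X Y] (hX : InP E X) (hY : InP E Y) : InP E (X ⊞ Y) :=
  inP_ext₂ E (binaryBiproductTriangle_distinguished X Y) hX hY

/-- Being a retract of a member of the small family. -/
def RetP (X : D) : Prop := ∃ (A : D) (i : X ⟶ A) (p : A ⟶ X), InP E A ∧ i ≫ p = 𝟙 X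

theorem retP_cone {T : Triangle D} (hT : T ∈ distTriang D) (h₁ : RetP E T.obj₁) (h₂ : RetP E T.obj₂) :
    RetP E T.obj₃ := by
  obtain ⟨A, i, p, hA, hip⟩ := h₁
  obtain ⟨B, j, q, hB, hjq⟩ := h₂
  obtain ⟨C, g, h, hT'⟩ := distinguished_cocone_triangle (p ≫ T.mor₁ ≫ j)
  obtain ⟨c, e₁, e₂⟩ : ∃ c : T.obj₃ ⟶ C, T.mor₂ ≫ c = j ≫ g ∧ T.mor₃ ≫ i⟦(1 : ℤ)⟧' = c ≫ h :=
    complete_distinguished_triangle_morphism T _ hT hT' i j
    (show T.mor₁ ≫ j = i ≫ p ≫ T.mor₁ ≫ j by rw [← Category.assoc i, hip, Category.id_comp])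
  obtain ⟨c', e₁', e₂'⟩ : ∃ c' : C ⟶ T.obj₃, g ≫ c' = q ≫ T.mor₂ ∧ h ≫ p⟦(1 : ℤ)⟧' = c' ≫ T.mor₃ :=
    complete_distinguished_triangle_morphism _ T hT' hT p q
    (show (p ≫ T.mor₁ ≫ j) ≫ q = p ≫ T.mor₁ by rw [Category.assoc, Category.assoc, hjq, Category.comp_id])
  have h1 : T.mor₁ ≫ 𝟙 T.obj₂ = 𝟙 T.obj₁ ≫ T.mor₁ := by simp
  have h2 : T.mor₂ ≫ c ≫ c' = 𝟙 T.obj₂ ≫ T.mor₂ := by
    rw [Category.id_comp, reassoc_of% e₁, e₁', reassoc_of% hjq]
  have h3 : T.mor₃ ≫ (𝟙 T.obj₁)⟦(1 : ℤ)⟧' = (c ≫ c') ≫ T.mor₃ := by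
    rw [← hip, Functor.map_comp, reassoc_of% e₂, e₂', Category.assoc]
  haveI : IsIso (c ≫ c') :=
    isIso₃_of_isIso₁₂ (Triangle.homMk T T (𝟙 _) (𝟙 _) (c ≫ c') h1 h2 h3) hT hT (IsIso.id _) (IsIso.id _)
  exact ⟨C, c, c' ≫ inv (c ≫ c'), inP_cone E hT' hA hB, by rw [← Category.assoc, IsIso.hom_inv_id]⟩

theorem thick_retP : TriCat.Thick (RetP E) where
  zero h := ⟨_, 𝟙 _, 𝟙 _, inP_zero E h, Category.comp_id _⟩
  shift n := fun ⟨A, i, p, hA, e⟩ => ⟨A⟦n⟧, i⟦n⟧', p⟦n⟧', InP.shift E hA n, by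
    rw [← Functor.map_comp, e, CategoryTheory.Functor.map_id]⟩
  total := fun {X Y Z} i₁ p₁ i₂ p₂ e ⟨A, i, p, hA, hip⟩ ⟨B, j, q, hB, hjq⟩ =>
    ⟨A ⊞ B, biprod.lift (p₁ ≫ i) (p₂ ≫ j), biprod.desc (p ≫ i₁) (q ≫ i₂), inP_biprod E hA hB, by
      rw [biprod.lift_desc, Category.assoc, Category.assoc, ← Category.assoc i, hip, Category.id_comp,
        ← Category.assoc j, hjq, Category.id_comp, e]⟩
  cone T hT h₁ h₂ := retP_cone E hT h₁ h₂

theorem finHomOn_of_hasFiniteSupport [HasCoproducts.{v} D] {A : D} (hA : TriCat.HasFiniteSupport A) :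
    TriCat.FinHomOn.{v} (fun _ : D => True) A := by
  classical
  intro J X _ _ n b
  obtain ⟨s, hs⟩ := TriCat.hasFiniteSupport_shift hA n J X b
  refine ⟨∑ j ∈ s, DirectSum.of (fun j => A⟦n⟧ ⟶ X j) j (b ≫ Sigma.π X j), ?_⟩
  rw [map_sum]
  conv_rhs => rw [← hs, TriCat.supp_eq_sum, Preadditive.comp_sum]
  refine Finset.sum_congr rfl fun j _ => ?_
  rw [TriCat.homSum_of, Category.assoc]

variable [IsTriangulated D] [HasCoproducts.{v} D]

/-- Every compact object is a retract of a member of the small family of a compact generating family. -/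
theorem retP_of_compact (hEc : ∀ i, CohDer.IsCompactObject (E i)) (hgen : CohDer.Generates E)
    {C : D} (hC : CohDer.IsCompactObject C) : RetP E C := by
  haveI : ∀ J : Type v, HasColimitsOfShape (Discrete J) D := fun J => inferInstance
  refine TriCat.mem_thick_of_generators (P := fun _ : D => True) (G := E) (fun _ _ _ => trivial)
    (fun _ _ _ _ => trivial) (fun _ _ => trivial) (fun _ _ _ => inferInstance)
    (fun i => finHomOn_of_hasFiniteSupport ((TriCat.isCompactObject_iff_hasFiniteSupport _).1 (hEc i)))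
    (fun M _ hM => hgen M fun i n f => TriCat.eq_zero_of_forall_shift (fun m g => hM i m g) n f)
    trivial (finHomOn_of_hasFiniteSupport ((TriCat.isCompactObject_iff_hasFiniteSupport _).1 hC))
    (thick_retP E) fun i => ?_
  exact ⟨_, ((shiftFunctorZero D ℤ).app (E i)).inv, ((shiftFunctorZero D ℤ).app (E i)).hom,
    ⟨⟨0, Sum.inr (i, 0)⟩, ⟨Iso.refl _⟩⟩, ((shiftFunctorZero D ℤ).app (E i)).inv_hom_id⟩

theorem compact_stage (hEc : ∀ i, CohDer.IsCompactObject (E i)) :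
    ∀ (n : ℕ) (a : (stage E n).1), CohDer.IsCompactObject ((stage E n).2 a) := by
  haveI := TriCat.isTriangulated_isCompactObject (D := D)
  let P : ObjectProperty D := fun K => CohDer.IsCompactObject K
  haveI : P.IsClosedUnderIsomorphisms := ⟨fun e h => (TriCat.isCompactObject_iff_hasFiniteSupport _).2
    (TriCat.hasFiniteSupport_of_iso e ((TriCat.isCompactObject_iff_hasFiniteSupport _).1 h))⟩
  intro n
  induction n with
  | zero =>
    rintro (_ | ⟨i, m⟩)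
    · exact (TriCat.isCompactObject_iff_hasFiniteSupport _).2 fun J X b =>
        ⟨∅, (isZero_zero D).eq_of_src _ _⟩
    · exact (TriCat.isCompactObject_iff_hasFiniteSupport _).2
        (TriCat.hasFiniteSupport_shift ((TriCat.isCompactObject_iff_hasFiniteSupport _).1 (hEc i)) m)
  | succ n ih =>
    rintro (a | ⟨a, b, f⟩)
    · exact ih a
    · obtain ⟨g, h, hT⟩ := coneObj_spec f
      exact P.ext_of_isTriangulatedClosed₃ _ hT (ih a) (ih b)

end GrothLib.CompactRep0
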